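import Groth.Agent.Crv77.IdealSeq
import Groth.Agent.Crv77.TwistSection
import Groth.Agent.EGAProj74.TildeRows

/-!
The sequence `0 → O → O/I ⊕ O/J → O/(I+J) → 0` for ideals meeting in zero.
-/

set_option autoImplicit false
set_option linter.style.haveILetI false

noncomputable section

universe u

open CategoryTheory Limits AlgebraicGeometry TopologicalSpace Opposite
open Groth.Agent.QC70

namespace Groth.Agent.TwoIdeals99

variable {X : Scheme.{u}} (I₁ I₂ : X.IdealSheafData)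

theorem shortExact_pair (h : I₁ ⊓ I₂ = ⊥)
    (q₁ : ClSub.quotMod I₁ ⟶ ClSub.quotMod (I₁ ⊔ I₂)) (q₂ : ClSub.quotMod I₂ ⟶ ClSub.quotMod (I₁ ⊔ I₂))
    (hq₁ : ClSub.toSubscheme I₁ ≫ q₁ = ClSub.toSubscheme (I₁ ⊔ I₂))
    (hq₂ : ClSub.toSubscheme I₂ ≫ q₂ = ClSub.toSubscheme (I₁ ⊔ I₂)) :
    Epi (biprod.desc q₁ (-q₂)) ∧
      ∃ w : biprod.lift (ClSub.toSubscheme I₁) (ClSub.toSubscheme I₂) ≫ biprod.desc q₁ (-q₂) = 0,
        Nonempty (IsLimit (KernelFork.ofι (biprod.lift (ClSub.toSubscheme I₁) (ClSub.toSubscheme I₂)) w)) := by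
  haveI := Crv77.epi_toSubscheme (I₁ ⊔ I₂)
  haveI : Epi q₁ := epi_of_epi_fac hq₁
  haveI hepi : Epi (biprod.desc q₁ (-q₂)) :=
    epi_of_epi_fac (biprod.inl_desc q₁ (-q₂))
  let l := biprod.lift (ClSub.toSubscheme I₁) (ClSub.toSubscheme I₂)
  have w : l ≫ biprod.desc q₁ (-q₂) = 0 := by
    simp [l, biprod.lift_desc, hq₁, hq₂]
  refine ⟨hepi, w, ?_⟩
  -- injectivity
  have hinj : ∀ W, Function.Injective (l.app W) := by
    intro W a b hab
    have e1 : (ClSub.toSubscheme I₁).app W a = (ClSub.toSubscheme I₁).app W b := by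
      conv_lhs => rw [← biprod.lift_fst (ClSub.toSubscheme I₁) (ClSub.toSubscheme I₂)]
      conv_rhs => rw [← biprod.lift_fst (ClSub.toSubscheme I₁) (ClSub.toSubscheme I₂)]
      exact congrArg ((biprod.fst : ClSub.quotMod I₁ ⊞ ClSub.quotMod I₂ ⟶ _).app W) hab
    have e2 : (ClSub.toSubscheme I₂).app W a = (ClSub.toSubscheme I₂).app W b := by
      conv_lhs => rw [← biprod.lift_snd (ClSub.toSubscheme I₁) (ClSub.toSubscheme I₂)]
      conv_rhs => rw [← biprod.lift_snd (ClSub.toSubscheme I₁) (ClSub.toSubscheme I₂)]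
      exact congrArg ((biprod.snd : ClSub.quotMod I₁ ⊞ ClSub.quotMod I₂ ⟶ _).app W) hab
    refine TopCat.Sheaf.eq_of_locally_eq' (F := ⟨(Coh.structureModule X).presheaf, (Coh.structureModule X).isSheaf⟩)
      (fun V : {V : X.affineOpens // V.1 ≤ W} => V.1.1) W (fun V => homOfLE V.2) ?_ a b fun V => ?_
    · intro x hx
      obtain ⟨V, hV, hxV, hVW⟩ := exists_isAffineOpen_mem_and_subset (X := X) (U := W) hx
      exact Opens.mem_iSup.mpr ⟨⟨⟨V, hV⟩, hVW⟩, hxV⟩
    obtain ⟨V, hVW⟩ := V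
    show res (Coh.structureModule X) hVW a = res (Coh.structureModule X) hVW b
    rw [← sub_eq_zero, ← res_sub]
    have f1 : (ClSub.toSubscheme I₁).app V.1 (res (Coh.structureModule X) hVW (a - b)) = 0 := by
      rw [app_res, map_sub, e1, sub_self, res_zero]
    have f2 : (ClSub.toSubscheme I₂).app V.1 (res (Coh.structureModule X) hVW (a - b)) = 0 := by
      rw [app_res, map_sub, e2, sub_self, res_zero]
    have g1 := (Crv77.toSubscheme_eq_zero_iff I₁ V.2 _).mp f1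
    have g2 := (Crv77.toSubscheme_eq_zero_iff I₂ V.2 _).mp f2
    have g : res (Coh.structureModule X) hVW (a - b) ∈ (I₁ ⊓ I₂).ideal V := by
      rw [Scheme.IdealSheafData.ideal_inf]; exact ⟨g1, g2⟩
    rw [h, Scheme.IdealSheafData.ideal_bot] at g
    exact g
  haveI : Mono l := EGAProj74.mono_of_app_injective l hinj
  have hex : (ShortComplex.mk l _ w).Exact := by
    refine EGAProj74.exact_of_locally l _ w fun W t ht z => ?_
    obtain ⟨V, hV, hzV, hVW⟩ := exists_isAffineOpen_mem_and_subset (X := X) (U := W) z.2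
    have lifts : ∀ (I : X.IdealSheafData) (s : Γ(ClSub.quotMod I, W)),
        ∃ a : Γ(X, V), (ClSub.toSubscheme I).app V (a : Γ(Coh.structureModule X, V)) =
          res (ClSub.quotMod I) hVW s := fun I s => by
      obtain ⟨a, ha⟩ := I.subschemeι.app_surjective V hV (res (ClSub.quotMod I) hVW s)
      exact ⟨a, ha⟩
    let x := (biprod.fst : ClSub.quotMod I₁ ⊞ ClSub.quotMod I₂ ⟶ _).app W t
    let y := (biprod.snd : ClSub.quotMod I₁ ⊞ ClSub.quotMod I₂ ⟶ _).app W t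
    obtain ⟨a, ha⟩ := lifts I₁ x
    obtain ⟨b, hb⟩ := lifts I₂ y
    have hd : biprod.desc q₁ (-q₂) = biprod.fst ≫ q₁ - biprod.snd ≫ q₂ := by
      rw [biprod.desc_eq]; simp [sub_eq_add_neg]
    rw [hd] at ht
    have ht' : q₁.app W x = q₂.app W y := sub_eq_zero.mp ht
    have hab : (ClSub.toSubscheme (I₁ ⊔ I₂)).app V ((a - b : Γ(X, V)) : Γ(Coh.structureModule X, V)) = 0 := by
      refine (map_sub _ (a : Γ(Coh.structureModule X, V)) b).trans ?_
      rw [sub_eq_zero]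
      conv_lhs => rw [← hq₁]
      conv_rhs => rw [← hq₂]
      show q₁.app V ((ClSub.toSubscheme I₁).app V (a : Γ(Coh.structureModule X, V))) =
        q₂.app V ((ClSub.toSubscheme I₂).app V (b : Γ(Coh.structureModule X, V)))
      rw [ha, hb]
      refine (app_res q₁ _ x).trans (((congrArg (res _ _) ht')).trans (app_res q₂ _ y).symm)
    have hm := (Crv77.toSubscheme_eq_zero_iff _ hV _).mp hab
    rw [Scheme.IdealSheafData.ideal_sup] at hm
    obtain ⟨i, hi, j, hj, hij⟩ := Submodule.mem_sup.mp hm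
    have hi0 := (Crv77.toSubscheme_eq_zero_iff I₁ hV i).mpr hi
    have hj0 := (Crv77.toSubscheme_eq_zero_iff I₂ hV j).mpr hj
    refine ⟨V, hVW, hzV, ((a - i : Γ(X, V)) : Γ(Coh.structureModule X, V)), ?_⟩
    have c1 : (ClSub.toSubscheme I₁).app V ((a - i : Γ(X, V)) : Γ(Coh.structureModule X, V)) =
        res (ClSub.quotMod I₁) hVW x := by
      refine (map_sub _ (a : Γ(Coh.structureModule X, V)) i).trans ?_
      erw [hi0]; rw [sub_zero]; exact ha
    have c2 : (ClSub.toSubscheme I₂).app V ((a - i : Γ(X, V)) : Γ(Coh.structureModule X, V)) =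
        res (ClSub.quotMod I₂) hVW y := by
      rw [show (a - i : Γ(X, V)) = b + j by rw [sub_eq_iff_eq_add, add_assoc, add_comm j i, hij]; ring]
      refine (map_add _ (b : Γ(Coh.structureModule X, V)) j).trans ?_
      erw [hj0]; rw [add_zero]; exact hb
    have hA : ∀ s₁ s₂ : Γ(ClSub.quotMod I₁ ⊞ ClSub.quotMod I₂, V),
        (biprod.fst : ClSub.quotMod I₁ ⊞ ClSub.quotMod I₂ ⟶ _).app V s₁ = (biprod.fst : ClSub.quotMod I₁ ⊞ ClSub.quotMod I₂ ⟶ _).app V s₂ →
        (biprod.snd : ClSub.quotMod I₁ ⊞ ClSub.quotMod I₂ ⟶ _).app V s₁ = (biprod.snd : ClSub.quotMod I₁ ⊞ ClSub.quotMod I₂ ⟶ _).app V s₂ →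
        s₁ = s₂ := by
      intro s₁ s₂ h1 h2
      have ht := biprod.total (X := ClSub.quotMod I₁) (Y := ClSub.quotMod I₂)
      have hid : ∀ s : Γ(ClSub.quotMod I₁ ⊞ ClSub.quotMod I₂, V),
          (biprod.inl : ClSub.quotMod I₁ ⟶ ClSub.quotMod I₁ ⊞ ClSub.quotMod I₂).app V ((biprod.fst : ClSub.quotMod I₁ ⊞ ClSub.quotMod I₂ ⟶ _).app V s) +
            (biprod.inr : ClSub.quotMod I₂ ⟶ ClSub.quotMod I₁ ⊞ ClSub.quotMod I₂).app V ((biprod.snd : ClSub.quotMod I₁ ⊞ ClSub.quotMod I₂ ⟶ _).app V s) = s :=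
        fun s => congr($(ht).app V s)
      rw [← hid s₁, ← hid s₂, h1, h2]
    refine hA _ _ ?_ ?_
    · refine Eq.trans ?_ (c1.trans (app_res biprod.fst hVW t).symm)
      exact congr($(biprod.lift_fst (ClSub.toSubscheme I₁) (ClSub.toSubscheme I₂)).app V _)
    · refine Eq.trans ?_ (c2.trans (app_res biprod.snd hVW t).symm)
      exact congr($(biprod.lift_snd (ClSub.toSubscheme I₁) (ClSub.toSubscheme I₂)).app V _)
  exact ⟨hex.fIsKernel⟩

end Groth.Agent.TwoIdeals99
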